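import Cfsg.Agent.Lib.LieTwisted.SuzukiSylow
import Mathlib

/-! Conjugation of root elements of the Suzuki group. -/

set_option autoImplicit false

namespace Cfsg.Agent.Lib.SzElements.Basic

open Cfsg.Agent.Lib.LieTwisted.Suzuki

variable {F : Type*} [Field F] [Fintype F] {m : ℕ} (h : IsSzField F m)
include h

/-- A non-trivial root element fixes no finite point. -/
theorem fix_point {a b : F} (hne : ¬ (a = 0 ∧ b = 0)) {p : Option (F × F)}
    (hp : uS h a b • opt m p = opt m p) : p = none := by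
  rcases p with _ | ⟨x, y⟩
  · rfl
  · rw [h.uS_smul_some] at hp
    obtain ⟨h1, h2⟩ := Prod.ext_iff.1 (Option.some.inj (opt_injective hp))
    simp only at h1 h2
    have ha : a = 0 := by linear_combination h1
    subst ha
    rw [sg_zero, zero_mul, add_zero] at h2
    exact absurd ⟨rfl, by linear_combination h2⟩ hne

/-- Conjugating a non-trivial root element into the root group forces the Borel subgroup. -/
theorem borel_of_conj (hm : 1 ≤ m) {k : Cfsg.Sz F m} {a b a' b' : F} (hne : ¬ (a = 0 ∧ b = 0))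
    (hne' : ¬ (a' = 0 ∧ b' = 0)) (hk : k * uS h a b * k⁻¹ = uS h a' b') :
    ∃ c d e, k = uS h c d * dS h e := by
  obtain ⟨p, hp⟩ := h.exists_opt_eq_smul hm k
  have hfix : uS h a' b' • opt m p = opt m p := by
    rw [← hp, ← hk, mul_smul, mul_smul, inv_smul_smul, h.uS_smul_none]
  rw [fix_point h hne' hfix] at hp
  exact h.eq_of_fix_none hm hp

/-- Conjugation by an element of the Borel subgroup. -/
theorem conj_uS (c d : F) (e : Fˣ) (a b : F) :
    uS h c d * dS h e * uS h a b * (uS h c d * dS h e)⁻¹ =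
      uS h (sg m (e : F) * a) (sg m (e : F) * (e : F) ^ 2 * b +
        sg m c * (sg m (e : F) * a) + sg m (sg m (e : F) * a) * c) := by
  have h1 : dS h e * uS h a b = uS h (sg m (e : F) * a) (sg m (e : F) * (e : F) ^ 2 * b) * dS h e :=
    h.dS_mul_uS e a b
  rw [mul_assoc (uS h c d), h1, mul_inv_rev, ← mul_assoc (uS h c d), mul_assoc _ (dS h e),
    ← mul_assoc (dS h e), mul_inv_cancel, one_mul, h.uS_inv, h.uS_mul, h.uS_mul]
  congr 1
  · linear_combination c * h.two0
  · rw [h.sg_add]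
    linear_combination (d + sg m c * c) * h.two0

theorem conj_center (c d : F) (e : Fˣ) (b : F) :
    uS h c d * dS h e * uS h 0 b * (uS h c d * dS h e)⁻¹ =
      uS h 0 (sg m (e : F) * (e : F) ^ 2 * b) := by
  rw [conj_uS]
  simp [sg_zero]

theorem scalar_surjective {l : F} (hl : l ≠ 0) : ∃ e : Fˣ, sg m (e : F) * (e : F) ^ 2 = l := by
  have : CharP F 2 := h.charTwo
  obtain ⟨r, hr⟩ : ∃ r : F, r ^ 2 = l :=
    (Finite.injective_iff_surjective.mp (CharTwo.sq_injective (R := F))) l
  obtain ⟨u, hu⟩ := h.sg_mul_self_surj r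
  have hu0 : sg m u ≠ 0 := by
    intro e
    rw [e, zero_mul] at hu
    rw [← hu] at hr
    exact hl (by rw [← hr]; ring)
  refine ⟨Units.mk0 (sg m u) hu0, ?_⟩
  rw [Units.val_mk0, h.sg_sg, ← hr, ← hu]
  ring

theorem eq_zero_of_sq {a b : F} (hsq : uS h a b ^ 2 = 1) : a = 0 := by
  rw [h.uS_sq, ← h.uS_zero] at hsq
  have h1 := (h.uS_coords_inj hsq).2
  by_contra ha
  exact mul_ne_zero (mt sg_eq_zero.1 ha) ha h1

/-- A root element of order four is not conjugate to its inverse. -/
theorem not_conj_inv (hm : 1 ≤ m) {a b : F} (ha : a ≠ 0) (k : Cfsg.Sz F m) :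
    k * uS h a b * k⁻¹ ≠ (uS h a b)⁻¹ := by
  intro hk
  rw [h.uS_inv] at hk
  obtain ⟨c, d, e, rfl⟩ := borel_of_conj h hm (fun x => ha x.1) (fun x => ha x.1) hk
  rw [conj_uS] at hk
  obtain ⟨h1, h2⟩ := h.uS_coords_inj hk
  have he : sg m (e : F) = 1 := mul_right_cancel₀ ha (by rw [h1, one_mul])
  have he1 : (e : F) = 1 := h.sg_injective (he.trans sg_one.symm)
  rw [he, he1] at h2
  obtain ⟨t, rfl⟩ : ∃ t, c = a * t := ⟨c / a, by field_simp⟩
  have hsa : sg m a ≠ 0 := mt sg_eq_zero.1 ha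
  simp only [one_mul, one_pow, sg_mul] at h2
  have h3 : sg m t + t = 1 := mul_left_cancel₀ (mul_ne_zero hsa ha) (by linear_combination h2)
  have h4 := congrArg (sg m) h3
  rw [h.sg_add, h.sg_sg, sg_one] at h4
  have h5 : t * (t - 1) = 0 := by linear_combination h4 - h3
  rcases mul_eq_zero.mp h5 with h6 | h6
  · rw [h6, sg_zero] at h3
    simp at h3
  · rw [sub_eq_zero.mp h6, sg_one] at h3
    exact one_ne_zero (by linear_combination -h3 + h.two0)

end Cfsg.Agent.Lib.SzElements.Basic
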